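import Groth.Agent.Lib.AzStruct62.Henselian
import Groth.Agent.Lib.CSA.Basic
import Mathlib.Algebra.Azumaya.Defs
import Mathlib.LinearAlgebra.Matrix.ToLin
import Mathlib.LinearAlgebra.Determinant
import Mathlib.LinearAlgebra.Basis.MulOpposite
import Mathlib.LinearAlgebra.TensorProduct.Basis
import Mathlib.RingTheory.TensorProduct.Free
import Mathlib.LinearAlgebra.Basis.VectorSpace

/-!
# Algebras with a basis and their structure constants
-/

set_option autoImplicit false
set_option linter.unusedSectionVars false
noncomputable section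

namespace Groth.Agent.Lib.AzStruct62

universe u

open scoped TensorProduct
open TensorProduct

variable {ι : Type} [Fintype ι] [DecidableEq ι]
variable {R : Type u} [CommRing R] {A : Type u} [Ring A] [Algebra R A]

/-- Structure constants in a basis. -/
def cst (b : Module.Basis ι R A) : ι → ι → ι → R := fun i j => b.equivFun (b i * b j)

theorem equivFun_self' (b : Module.Basis ι R A) (i : ι) : b.equivFun (b i) = e i := by
  funext j
  rw [Module.Basis.equivFun_apply, Module.Basis.repr_self, Finsupp.single_eq_pi_single]

theorem equivFun_mul (b : Module.Basis ι R A) (x y : A) :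
    b.equivFun (x * y) = mu (cst b) (b.equivFun x) (b.equivFun y) := by
  have : (LinearMap.mul R A).compr₂ b.equivFun.toLinearMap =
      (mu (cst b)).compl₁₂ b.equivFun.toLinearMap b.equivFun.toLinearMap :=
    b.ext fun i => b.ext fun j => by
      simp only [LinearMap.compr₂_apply, LinearMap.compl₁₂_apply, LinearMap.mul_apply', LinearEquiv.coe_coe]
      rw [equivFun_self', equivFun_self', mu_e]
      rfl
  exact LinearMap.congr_fun (LinearMap.congr_fun this x) y

theorem unital_cst (b : Module.Basis ι R A) {z : ι} (hz : b z = 1) : Unital (cst b) z := fun j => by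
  refine ⟨?_, ?_⟩
  · rw [cst, hz, one_mul, equivFun_self']
  · rw [cst, hz, mul_one, equivFun_self']

theorem assoc_cst (b : Module.Basis ι R A) : Assoc (cst b) := by
  refine Assoc.of_eq fun x y w => ?_
  obtain ⟨x, rfl⟩ := b.equivFun.surjective x
  obtain ⟨y, rfl⟩ := b.equivFun.surjective y
  obtain ⟨w, rfl⟩ := b.equivFun.surjective w
  rw [← equivFun_mul, ← equivFun_mul, ← equivFun_mul, ← equivFun_mul, mul_assoc]

open Matrix in
theorem bijective_mulLeftRight_iff (b : Module.Basis ι R A) :
    Function.Bijective (AlgHom.mulLeftRight R A) ↔ IsUnit (Mat (cst b)).det := by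
  let v := b.tensorProduct b.mulOpposite
  let w := b.end.reindex (Equiv.prodComm ι ι)
  have hM : LinearMap.toMatrix v w (AlgHom.mulLeftRight R A).toLinearMap = (Mat (cst b))ᵀ := by
    ext ⟨i, l⟩ ⟨a, c⟩
    rw [LinearMap.toMatrix_apply, Matrix.transpose_apply]
    simp only [v, w, Module.Basis.tensorProduct_apply, Module.Basis.repr_reindex_apply,
      AlgHom.toLinearMap_apply, Equiv.prodComm_symm, Equiv.prodComm_apply, Prod.swap_prod_mk,
      Module.Basis.end_repr_apply]
    simp only [Mat, Matrix.of_apply, ← equivFun_self' b, ← equivFun_mul]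
    simp only [Module.Basis.equivFun_apply]
    simp [Matrix.stdBasis, LinearMap.toMatrix_apply]
  constructor
  · intro h
    have := (LinearEquiv.ofBijective (AlgHom.mulLeftRight R A).toLinearMap h).isUnit_det v w
    rw [← Matrix.det_transpose, ← hM]
    exact this
  · intro h
    rw [← Matrix.det_transpose, ← hM] at h
    exact (LinearEquiv.ofIsUnitDet h).bijective

theorem isAzumaya_of_isUnit_det (b : Module.Basis ι R A) (z : ι) (hd : IsUnit (Mat (cst b)).det) :
    IsAzumaya R A := by
  have := Module.Free.of_basis b
  have := Module.Finite.of_basis b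
  exact
    { eq_of_smul_eq_smul := fun {r s} h => by
        simpa using congrArg (fun x => b.repr x z) (h (b z))
      bij := (bijective_mulLeftRight_iff b).mpr hd }

theorem cst_baseChange (K : Type u) [CommRing K] [Algebra R K] (b : Module.Basis ι R A) :
    cst (Algebra.TensorProduct.basis K b) = fun i j l => algebraMap R K (cst b i j l) := by
  funext i j l
  simp only [cst, Algebra.TensorProduct.basis_apply, Algebra.TensorProduct.tmul_mul_tmul, one_mul,
    Module.Basis.equivFun_apply, Algebra.TensorProduct.basis_repr_tmul]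
  simp

/-- Algebras with the same structure constants are isomorphic. -/
def equivOfCst {A' : Type u} [Ring A'] [Algebra R A'] (b : Module.Basis ι R A)
    (b' : Module.Basis ι R A') (h : cst b = cst b') {z : ι} (hz : b z = 1) (hz' : b' z = 1) : A ≃ₐ[R] A' :=
  AlgEquiv.ofLinearEquiv (b.equiv b' (Equiv.refl ι))
    (by rw [← hz, Module.Basis.equiv_apply, Equiv.refl_apply, hz'])
    (fun x y => by
      have key : ∀ w, b'.equivFun (b.equiv b' (Equiv.refl ι) w) = b.equivFun w := fun w => by
        funext l
        simp [Module.Basis.equiv, Module.Basis.equivFun_apply]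
      apply b'.equivFun.injective
      rw [key, equivFun_mul, equivFun_mul, key, key, h])

/-- The underlying module of the algebra with given structure constants. -/
def Alg (_c : ι → ι → ι → R) : Type u := ι → R

instance (c : ι → ι → ι → R) : AddCommGroup (Alg c) := inferInstanceAs (AddCommGroup (ι → R))

instance (c : ι → ι → ι → R) : Module R (Alg c) := inferInstanceAs (Module R (ι → R))

theorem exists_algebra (c : ι → ι → ι → R) {z : ι} (hu : Unital c z) (ha : Assoc c) :
    ∃ (A : Type u) (_ : Ring A) (_ : Algebra R A) (b : Module.Basis ι R A), cst b = c ∧ b z = 1 := by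
  let m : Alg c →ₗ[R] Alg c →ₗ[R] Alg c := mu c
  let iR : Ring (Alg c) :=
    { (inferInstance : AddCommGroup (Alg c)) with
      mul := fun x y => m x y
      one := (e z : ι → R)
      left_distrib := fun x y w => map_add (m x) y w
      right_distrib := fun x y w => LinearMap.congr_fun (map_add m x y) w
      zero_mul := fun x => LinearMap.congr_fun (map_zero m) x
      mul_zero := fun x => map_zero (m x)
      mul_assoc := fun x y w => ha.eq x y w
      one_mul := fun x => hu.left x
      mul_one := fun x => hu.right x }
  let iA : Algebra R (Alg c) := Algebra.ofModule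
    (fun r x y => LinearMap.congr_fun (map_smul m r x) y) (fun r x y => map_smul (m x) r y)
  let E : Alg c ≃ₗ[R] (ι → R) := LinearEquiv.refl R (ι → R)
  let b : Module.Basis ι R (Alg c) := Module.Basis.ofEquivFun E
  have hb : ∀ i, b i = (e i : ι → R) := fun i => by
    rw [show b i = E.symm (Pi.single i 1) from congrFun (Module.Basis.coe_ofEquivFun E) i]
    rfl
  refine ⟨Alg c, iR, iA, b, ?_, hb z⟩
  funext i j
  change b.equivFun (m (b i) (b j)) = c i j
  rw [show b.equivFun = E from Module.Basis.equivFun_ofEquivFun E, hb, hb]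
  exact mu_e c i j

/-- A basis containing `1`. -/
theorem exists_basis_one (k : Type u) [Field k] (A₀ : Type u) [Ring A₀] [Algebra k A₀] [Nontrivial A₀]
    [FiniteDimensional k A₀] :
    ∃ (n : ℕ) (b : Module.Basis (Fin n) k A₀) (z : Fin n), b z = 1 := by
  have hli : LinearIndepOn k id ({1} : Set A₀) := (linearIndepOn_singleton_iff k).mpr one_ne_zero
  let B := Module.Basis.extend hli
  have : Fintype (hli.extend (Set.subset_univ _)) := Fintype.ofFinite _
  let q := Fintype.equivFin (hli.extend (Set.subset_univ _))
  refine ⟨_, B.reindex q, q ⟨1, hli.subset_extend _ rfl⟩, ?_⟩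
  rw [Module.Basis.reindex_apply, Equiv.symm_apply_apply, Module.Basis.extend_apply_self]

open IsLocalRing in
theorem exists_azumaya_lift (R : Type u) [CommRing R] [HenselianLocalRing R] (A₀ : Type u) [Ring A₀]
    [Algebra (ResidueField R) A₀] [Algebra.IsCentral (ResidueField R) A₀] [IsSimpleRing A₀]
    [FiniteDimensional (ResidueField R) A₀] :
    ∃ (A : Type u) (_ : Ring A) (_ : Algebra R A), IsAzumaya R A ∧
      Nonempty ((ResidueField R ⊗[R] A) ≃ₐ[ResidueField R] A₀) := by
  obtain ⟨n, b₀, z, hz⟩ := exists_basis_one (ResidueField R) A₀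
  obtain ⟨c, hu, ha, hd, hc⟩ := exists_lift_henselian R (cst b₀) (unital_cst b₀ hz) (assoc_cst b₀)
    ((bijective_mulLeftRight_iff b₀).mp (CSA.Basic.mulLeftRight_bijective _ _))
  obtain ⟨A, iR, iA, b, rfl, hbz⟩ := exists_algebra c hu ha
  refine ⟨A, iR, iA, isAzumaya_of_isUnit_det b z hd,
    ⟨equivOfCst (Algebra.TensorProduct.basis (ResidueField R) b) b₀ ?_ (z := z) ?_ hz⟩⟩
  · rw [cst_baseChange]
    exact funext₃ hc
  · rw [Algebra.TensorProduct.basis_apply, hbz, Algebra.TensorProduct.one_def]

end Groth.Agent.Lib.AzStruct62
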