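import Mathlib.LinearAlgebra.Matrix.NonsingularInverse
import Mathlib.LinearAlgebra.StdBasis
import Mathlib.RingTheory.Ideal.Quotient.Operations
import Mathlib.LinearAlgebra.BilinearMap
import Mathlib.RingTheory.Nilpotent.Basic
import Mathlib.RingTheory.Nilpotent.Lemmas

/-!
# Structure constants of Azumaya algebras deform along square-zero extensions
-/

set_option autoImplicit false
set_option linter.unusedSectionVars false
noncomputable section

namespace Groth.Agent.Lib.AzStruct62

universe u v

variable {ι : Type} [Fintype ι] [DecidableEq ι] {B : Type u} [CommRing B]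

/-- The multiplication with the given structure constants. -/
def mu (c : ι → ι → ι → B) : (ι → B) →ₗ[B] (ι → B) →ₗ[B] (ι → B) :=
  ∑ i, (LinearMap.proj (R := B) (φ := fun _ : ι => B) i).smulRight
    (∑ j, (LinearMap.proj (R := B) (φ := fun _ : ι => B) j).smulRight (c i j))

/-- Basis vectors. -/
abbrev e (i : ι) : ι → B := Pi.single i 1

theorem mu_apply (c : ι → ι → ι → B) (x y : ι → B) : mu c x y = ∑ i, ∑ j, x i • y j • c i j := by
  simp [mu, Finset.smul_sum]

theorem mu_e (c : ι → ι → ι → B) (i j : ι) : mu c (e i) (e j) = c i j := by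
  rw [mu_apply, Finset.sum_eq_single i, Finset.sum_eq_single j] <;>
    simp +contextual [e, Pi.single_apply]

theorem mu_map {B' : Type v} [CommRing B'] (f : B →+* B') (c : ι → ι → ι → B) (x y : ι → B) :
    mu (fun i j l => f (c i j l)) (f ∘ x) (f ∘ y) = f ∘ mu c x y := by
  funext l
  simp [mu_apply, map_sum, Finset.sum_apply]

theorem map_e {B' : Type v} [CommRing B'] (f : B →+* B') (i : ι) : f ∘ (e i : ι → B) = (e i : ι → B') := by
  funext l
  rcases eq_or_ne l i with rfl | h <;> simp [e, Pi.single_apply, *]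

/-- Two-sided unit vector. -/
def Unital (c : ι → ι → ι → B) (z : ι) : Prop :=
  ∀ j : ι, c z j = e j ∧ c j z = e j

/-- Associativity of the structure constants. -/
def Assoc (c : ι → ι → ι → B) : Prop :=
  ∀ a b d : ι, mu c (c a b) (e d) = mu c (e a) (c b d)

theorem Unital.left {c : ι → ι → ι → B} {z : ι} (h : Unital c z) (x : ι → B) : mu c (e z) x = x := by
  have : mu c (e z) = LinearMap.id := (Pi.basisFun B ι).ext fun j => by
    rw [Pi.basisFun_apply]
    exact (mu_e c z j).trans (h j).1
  rw [this]; rfl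

theorem Unital.right {c : ι → ι → ι → B} {z : ι} (h : Unital c z) (x : ι → B) : mu c x (e z) = x := by
  have : (mu c).flip (e z) = LinearMap.id := (Pi.basisFun B ι).ext fun j => by
    rw [Pi.basisFun_apply]
    exact (mu_e c j z).trans (h j).2
  exact LinearMap.congr_fun this x

theorem ext₃ {W : Type u} [AddCommGroup W] [Module B W]
    {F G : (ι → B) →ₗ[B] (ι → B) →ₗ[B] (ι → B) →ₗ[B] W}
    (h : ∀ a b d : ι, F (e a) (e b) (e d) = G (e a) (e b) (e d)) : F = G :=
  (Pi.basisFun B ι).ext fun a => (Pi.basisFun B ι).ext fun b => (Pi.basisFun B ι).ext fun d => by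
    simp only [Pi.basisFun_apply]
    exact h a b d

/-- The associator. -/
def assocMap (c : ι → ι → ι → B) : (ι → B) →ₗ[B] (ι → B) →ₗ[B] (ι → B) →ₗ[B] (ι → B) :=
  LinearMap.mk₂ B (fun x y => mu c (mu c x y) - (mu c x).comp (mu c y))
    (fun x x' y => by ext; simp [LinearMap.add_apply]; ring)
    (fun r x y => by ext; simp [mul_sub])
    (fun x y y' => by ext; simp; ring)
    (fun r x y => by ext; simp [mul_sub])

theorem assocMap_apply (c : ι → ι → ι → B) (x y w : ι → B) :
    assocMap c x y w = mu c (mu c x y) w - mu c x (mu c y w) := rfl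

theorem Assoc.eq {c : ι → ι → ι → B} (h : Assoc c) (x y w : ι → B) :
    mu c (mu c x y) w = mu c x (mu c y w) := by
  have : assocMap c = 0 := ext₃ fun a b d => by
    rw [assocMap_apply, mu_e, mu_e, h a b d, sub_self]
    rfl
  have h0 := LinearMap.congr_fun (LinearMap.congr_fun (LinearMap.congr_fun this x) y) w
  rwa [assocMap_apply, LinearMap.zero_apply, LinearMap.zero_apply, LinearMap.zero_apply, sub_eq_zero] at h0

/-- Associativity from `mu`. -/
theorem Assoc.of_eq {c : ι → ι → ι → B} (h : ∀ x y w, mu c (mu c x y) w = mu c x (mu c y w)) : Assoc c :=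
  fun a b d => by rw [← mu_e c a b, ← mu_e c b d]; exact h _ _ _

/-- The matrix of `w ↦ (z ↦ ∑ w_ab e_a z e_b)`. -/
def Mat (c : ι → ι → ι → B) : Matrix (ι × ι) (ι × ι) B :=
  Matrix.of fun p q => mu c (mu c (e p.1) (e q.1)) (e p.2) q.2

theorem Mat_map {B' : Type v} [CommRing B'] (f : B →+* B') (c : ι → ι → ι → B) :
    Mat (fun i j l => f (c i j l)) = (Mat c).map f := by
  ext p q
  simp only [Mat, Matrix.of_apply, Matrix.map_apply]
  rw [← map_e f p.1, ← map_e f q.1, ← map_e f p.2, mu_map, mu_map]
  rfl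

/-- Contraction of a bilinear map against a tensor. -/
def con {W : Type u} [AddCommGroup W] [Module B W] (t : ι × ι → B) (β : (ι → B) →ₗ[B] (ι → B) →ₗ[B] W) : W :=
  ∑ p, t p • β (e p.1) (e p.2)

theorem expand {W : Type u} [AddCommGroup W] [Module B W] (β : (ι → B) →ₗ[B] (ι → B) →ₗ[B] W) (u v : ι → B) :
    con (fun p => u p.1 * v p.2) β = β u v := by
  conv_rhs => rw [pi_eq_sum_univ' u, pi_eq_sum_univ' v]
  simp only [con, Fintype.sum_prod_type, map_sum, LinearMap.sum_apply, map_smul, LinearMap.smul_apply,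
    Finset.smul_sum, mul_smul]
  rw [Finset.sum_comm]
  exact Finset.sum_congr rfl fun q _ => Finset.sum_congr rfl fun p _ => smul_comm _ _ _

/-- The obstruction to centrality of a tensor. -/
def cent (c : ι → ι → ι → B) (t : ι × ι → B) (x : ι → B) : ι × ι → B := fun p =>
  ∑ q, t q * (mu c x (e q.1) p.1 * e q.2 p.2 - e q.1 p.1 * mu c (e q.2) x p.2)

theorem con_cent {W : Type u} [AddCommGroup W] [Module B W] (c : ι → ι → ι → B) (t : ι × ι → B) (x : ι → B)
    (β : (ι → B) →ₗ[B] (ι → B) →ₗ[B] W) :
    con (cent c t x) β =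
      ∑ q, t q • β (mu c x (e q.1)) (e q.2) - ∑ q, t q • β (e q.1) (mu c (e q.2) x) := by
  simp only [con, cent, Finset.sum_smul, mul_smul]
  rw [Finset.sum_comm, ← Finset.sum_sub_distrib]
  refine Finset.sum_congr rfl fun q _ => ?_
  rw [← Finset.smul_sum, ← smul_sub, ← expand β (mu c x (e q.1)) (e q.2), ← expand β (e q.1) (mu c (e q.2) x)]
  simp only [con, sub_smul, Finset.sum_sub_distrib]

/-- A separability tensor. -/
theorem exists_separator {c : ι → ι → ι → B} {z : ι} (hu : Unital c z) (ha : Assoc c)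
    (hd : IsUnit (Mat c).det) :
    ∃ t : ι × ι → B, con t (mu c) = e z ∧ ∀ x p, cent c t x p = 0 := by
  classical
  let tgt : ι × ι → B := fun q => if q.1 = z then e z q.2 else 0
  let t : ι × ι → B := Matrix.vecMul tgt (Mat c)⁻¹
  have ht : Matrix.vecMul t (Mat c) = tgt := by
    rw [Matrix.vecMul_vecMul, Matrix.nonsing_inv_mul _ hd, Matrix.vecMul_one]
  have hsand : ∀ i, ∑ p, t p • mu c (mu c (e p.1) (e i)) (e p.2) = if i = z then e z else 0 := fun i => by
    funext l
    have h1 := congrFun ht (i, l)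
    simp only [Matrix.vecMul, dotProduct, Mat, Matrix.of_apply, tgt] at h1
    simp only [Finset.sum_apply, Pi.smul_apply, smul_eq_mul]
    rw [h1]
    split_ifs <;> rfl
  refine ⟨t, ?_, fun x p => ?_⟩
  · have h1 := hsand z
    simp only [hu.right, if_true] at h1
    exact h1
  · have h0 : Matrix.vecMul (cent c t x) (Mat c) = 0 := by
      funext q
      obtain ⟨i, l⟩ := q
      let β : (ι → B) →ₗ[B] (ι → B) →ₗ[B] (ι → B) := (mu c).comp ((mu c).flip (e i))
      have hβ : ∀ u v, β u v = mu c (mu c u (e i)) v := fun _ _ => rfl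
      have h2 : con (cent c t x) β = 0 := by
        rw [con_cent, sub_eq_zero]
        have h1 : ∑ q, t q • β (mu c x (e q.1)) (e q.2) =
            mu c x (∑ q, t q • mu c (mu c (e q.1) (e i)) (e q.2)) := by
          rw [map_sum]
          exact Finset.sum_congr rfl fun q _ => by rw [map_smul, hβ, ha.eq, ha.eq]; simp only [ha.eq]
        have h2' : ∑ q, t q • β (e q.1) (mu c (e q.2) x) =
            mu c (∑ q, t q • mu c (mu c (e q.1) (e i)) (e q.2)) x := by
          rw [map_sum, LinearMap.sum_apply]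
          exact Finset.sum_congr rfl fun q _ => by rw [map_smul, LinearMap.smul_apply, hβ, ha.eq]; simp only [ha.eq]
        rw [h1, h2', hsand]
        split_ifs
        · rw [hu.left, hu.right]
        · simp
      have := congrFun h2 l
      simpa [con, hβ, Matrix.vecMul, dotProduct, Mat] using this
    have h3 := congrArg (fun v => Matrix.vecMul v (Mat c)⁻¹) h0
    simp only [Matrix.vecMul_vecMul, Matrix.mul_nonsing_inv _ hd, Matrix.vecMul_one, Matrix.zero_vecMul] at h3
    exact congrFun h3 p

section Lift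

variable {N : Ideal B}

theorem mem_mu_left (c : ι → ι → ι → B) {n : ι → B} (hn : ∀ l, n l ∈ N) (x : ι → B) (l : ι) :
    mu c n x l ∈ N := by
  simp only [mu_apply, Finset.sum_apply, Pi.smul_apply, smul_eq_mul]
  exact Submodule.sum_mem _ fun i _ => Submodule.sum_mem _ fun j _ => Ideal.mul_mem_right _ _ (hn i)

theorem mem_mu_right (c : ι → ι → ι → B) {n : ι → B} (hn : ∀ l, n l ∈ N) (x : ι → B) (l : ι) :
    mu c x n l ∈ N := by
  simp only [mu_apply, Finset.sum_apply, Pi.smul_apply, smul_eq_mul]
  exact Submodule.sum_mem _ fun i _ => Submodule.sum_mem _ fun j _ =>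
    Ideal.mul_mem_left _ _ (Ideal.mul_mem_right _ _ (hn j))

/-- A linear map with values in `N` kills vectors with entries in `N`. -/
theorem eq_zero_of_mem (hN : N ^ 2 = ⊥) (F : (ι → B) →ₗ[B] (ι → B))
    (hF : ∀ i l, F (e i) l ∈ N) {n : ι → B} (hn : ∀ l, n l ∈ N) : F n = 0 := by
  funext l
  conv_lhs => rw [pi_eq_sum_univ' n, map_sum]
  simp only [map_smul, Finset.sum_apply, Pi.smul_apply, smul_eq_mul, Pi.zero_apply]
  refine Finset.sum_eq_zero fun i _ => ?_
  have : n i * F (e i) l ∈ N ^ 2 := by rw [pow_two]; exact Ideal.mul_mem_mul (hn i) (hF i l)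
  rw [hN] at this
  exact this

theorem exists_lift (hN : N ^ 2 = ⊥) {z : ι} (c : ι → ι → ι → B) (hu : Unital c z)
    (ha : ∀ x y w l, assocMap c x y w l ∈ N)
    (t : ι × ι → B) (ht : ∀ l, (con (W := ι → B) t (mu c) - (e z : ι → B) : ι → B) l ∈ N) (htc : ∀ x p, cent c t x p ∈ N) :
    ∃ c' : ι → ι → ι → B, Unital c' z ∧ Assoc c' ∧ ∀ i j l, c' i j l - c i j l ∈ N := by
  classical
  have hC3 : ∀ x y (n : ι → B), (∀ l, n l ∈ N) → assocMap c x y n = 0 := fun x y n hn =>
    eq_zero_of_mem hN (assocMap c x y) (fun i l => ha _ _ _ l) hn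
  have hC2 : ∀ x (n : ι → B) w, (∀ l, n l ∈ N) → assocMap c x n w = 0 := fun x n w hn =>
    eq_zero_of_mem hN ((assocMap c x).flip w) (fun i l => ha _ _ _ l) hn
  let H : (ι → B) →ₗ[B] (ι → B) →ₗ[B] (ι → B) :=
    ∑ p, t p • (assocMap c (e p.2)).compr₂ (mu c (e p.1))
  have hH : ∀ y w, H y w = ∑ p, t p • mu c (e p.1) (assocMap c (e p.2) y w) := fun y w => by
    simp [H, LinearMap.sum_apply]
  have hHN : ∀ y w l, H y w l ∈ N := fun y w l => by
    rw [hH]
    simp only [Finset.sum_apply, Pi.smul_apply, smul_eq_mul]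
    exact Submodule.sum_mem _ fun p _ => Ideal.mul_mem_left _ _ (mem_mu_right c (ha _ _ _) _ l)
  let c' : ι → ι → ι → B := fun i j => c i j + H (e i) (e j)
  have hmu : ∀ x y, mu c' x y = mu c x y + H x y := by
    have : mu c' = mu c + H := (Pi.basisFun B ι).ext fun i => (Pi.basisFun B ι).ext fun j => by
      simp only [Pi.basisFun_apply, LinearMap.add_apply]
      rw [mu_e, mu_e]
    intro x y
    rw [this]; rfl
  refine ⟨c', fun j => ⟨?_, ?_⟩, Assoc.of_eq fun x y w => ?_, fun i j l => ?_⟩
  · change c z j + H (e z) (e j) = e j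
    rw [hH, Finset.sum_eq_zero fun p _ => ?_, add_zero, (hu j).1]
    rw [assocMap_apply, hu.right, hu.left, sub_self, map_zero, smul_zero]
  · change c j z + H (e j) (e z) = e j
    rw [hH, Finset.sum_eq_zero fun p _ => ?_, add_zero, (hu j).2]
    rw [assocMap_apply, hu.right, hu.right, sub_self, map_zero, smul_zero]
  · -- the four terms of the Hochschild differential
    let C := assocMap c
    have hx : mu c x (H y w) = ∑ p, t p • mu c (e p.1) (C (mu c (e p.2) x) y w) := by
      let β : (ι → B) →ₗ[B] (ι → B) →ₗ[B] (ι → B) := (mu c).compl₂ (((assocMap c).flip y).flip w)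
      have hβ : ∀ u v, β u v = mu c u (C v y w) := fun _ _ => rfl
      have hz : con (cent c t x) β = 0 := Finset.sum_eq_zero fun q _ => by
        funext l
        have : cent c t x q * β (e q.1) (e q.2) l ∈ N ^ 2 := by
          rw [pow_two]
          exact Ideal.mul_mem_mul (htc x q) (mem_mu_right c (fun l => ha _ _ _ l) _ l)
        rw [hN] at this
        exact this
      rw [con_cent, sub_eq_zero] at hz
      simp only [hβ] at hz
      rw [← hz, hH, map_sum]
      refine Finset.sum_congr rfl fun p _ => ?_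
      rw [map_smul]
      congr 1
      have := hC3 x (e p.1) (C (e p.2) y w) (ha _ _ _)
      rw [assocMap_apply, sub_eq_zero] at this
      exact this.symm
    have hc : C x y w = ∑ p, t p • mu c (e p.1) (mu c (e p.2) (C x y w)) := by
      have h1 : ∀ p : ι × ι, mu c (mu c (e p.1) (e p.2)) (C x y w) = mu c (e p.1) (mu c (e p.2) (C x y w)) :=
        fun p => by
          have := hC3 (e p.1) (e p.2) (C x y w) (ha _ _ _)
          rwa [assocMap_apply, sub_eq_zero] at this
      have h2 : mu c (con t (mu c) - e z) (C x y w) = 0 :=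
        eq_zero_of_mem hN (mu c (con t (mu c) - e z)) (fun i l => mem_mu_left c ht _ l) (ha _ _ _)
      rw [map_sub, LinearMap.sub_apply, hu.left, sub_eq_zero] at h2
      simp only [← h1]
      simpa [con, map_sum, LinearMap.sum_apply] using h2.symm
    have hw : mu c (H x y) w = ∑ p, t p • mu c (e p.1) (mu c (C (e p.2) x y) w) := by
      rw [hH, map_sum, LinearMap.sum_apply]
      refine Finset.sum_congr rfl fun p _ => ?_
      rw [map_smul, LinearMap.smul_apply]
      congr 1
      have := hC2 (e p.1) (C (e p.2) x y) w (ha _ _ _)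
      rwa [assocMap_apply, sub_eq_zero] at this
    have hT : ∀ b : ι → B, C (mu c b x) y w - C b (mu c x y) w + C b x (mu c y w) =
        mu c b (C x y w) + mu c (C b x y) w := fun b => by
      simp only [C, assocMap_apply, map_sub, LinearMap.sub_apply]
      abel
    have hkey : mu c x (H y w) - H (mu c x y) w + H x (mu c y w) = C x y w + mu c (H x y) w := by
      rw [hx, hH, hH, hc, hw, ← Finset.sum_sub_distrib, ← Finset.sum_add_distrib, ← Finset.sum_add_distrib]
      refine Finset.sum_congr rfl fun p _ => ?_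
      rw [← smul_sub, ← smul_add, ← smul_add, ← map_sub, ← map_add, ← map_add, hT]
    have hz1 : H (H x y) w = 0 := eq_zero_of_mem hN (H.flip w) (fun i l => hHN _ _ l) (hHN x y)
    have hz2 : H x (H y w) = 0 := eq_zero_of_mem hN (H x) (fun i l => hHN _ _ l) (hHN y w)
    simp only [hmu, map_add, LinearMap.add_apply, hz1, hz2, add_zero]
    rw [show mu c (mu c x y) w = C x y w + mu c x (mu c y w) by simp [C, assocMap_apply],
      ← sub_eq_zero]
    have := sub_eq_zero.mpr hkey.symm
    rw [← this]
    abel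
  · simpa [c'] using hHN (e i) (e j) l

/-- Azumaya structure constants lift along square-zero extensions. -/
theorem exists_lift_az (hN : N ^ 2 = ⊥) {z : ι} (cb : ι → ι → ι → B ⧸ N) (hu : Unital cb z) (ha : Assoc cb)
    (hd : IsUnit (Mat cb).det) :
    ∃ c : ι → ι → ι → B, Unital c z ∧ Assoc c ∧ IsUnit (Mat c).det ∧
      ∀ i j l, Ideal.Quotient.mk N (c i j l) = cb i j l := by
  classical
  let π := Ideal.Quotient.mk N
  choose s hs using Ideal.Quotient.mk_surjective (I := N)
  let c : ι → ι → ι → B := fun i j =>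
    if i = z then e j else if j = z then e i else fun l => s (cb i j l)
  have hcu : Unital c z := fun j => by
    refine ⟨by simp [c], ?_⟩
    by_cases hj : j = z
    · simp [c, hj]
    · simp [c, hj]
  have hπc : ∀ i j l, π (c i j l) = cb i j l := fun i j l => by
    by_cases hi : i = z
    · subst hi
      rw [(hu j).1]
      simp only [c, if_true]
      exact congrFun (map_e π j) l
    by_cases hj : j = z
    · subst hj
      rw [(hu i).2]
      simp only [c, if_neg hi, if_true]
      exact congrFun (map_e π i) l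
    simp [c, hi, hj, hs, π]
  have hmap : cb = fun i j l => π (c i j l) := funext₃ fun i j l => (hπc i j l).symm
  have hmu : ∀ x y : ι → B, π ∘ mu c x y = mu cb (π ∘ x) (π ∘ y) := fun x y => by
    rw [hmap, mu_map]
  obtain ⟨tb, htb, htbc⟩ := exists_separator hu ha hd
  let t : ι × ι → B := fun p => s (tb p)
  have hC : ∀ x y w l, assocMap c x y w l ∈ N := fun x y w l => by
    rw [← Ideal.Quotient.eq_zero_iff_mem, assocMap_apply, Pi.sub_apply, map_sub]
    change (π ∘ mu c (mu c x y) w) l - (π ∘ mu c x (mu c y w)) l = 0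
    rw [hmu, hmu, hmu, hmu, ha.eq, sub_self]
  have ht : ∀ l, (con (W := ι → B) t (mu c) - (e z : ι → B) : ι → B) l ∈ N := fun l => by
    rw [← Ideal.Quotient.eq_zero_iff_mem, Pi.sub_apply, map_sub, sub_eq_zero]
    simp only [con, Finset.sum_apply, Pi.smul_apply, smul_eq_mul, map_sum, map_mul]
    have h1 := congrFun htb l
    simp only [con, Finset.sum_apply, Pi.smul_apply, smul_eq_mul] at h1
    refine Eq.trans ?_ ((congrFun (map_e π z) l).symm)
    rw [← h1]
    refine Finset.sum_congr rfl fun p _ => ?_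
    rw [hs, show π (mu c (e p.1) (e p.2) l) = (π ∘ mu c (e p.1) (e p.2)) l from rfl, hmu, map_e, map_e]
  have htc : ∀ x p, cent c t x p ∈ N := fun x p => by
    rw [← Ideal.Quotient.eq_zero_iff_mem, ← htbc (π ∘ x) p]
    simp only [cent, map_sum, map_mul, map_sub]
    refine Finset.sum_congr rfl fun q _ => ?_
    rw [hs, ← map_e π q.1, ← map_e π q.2, ← hmu, ← hmu]
    rfl
  obtain ⟨c', hu', ha', hdiff⟩ := exists_lift hN c hcu hC t ht htc
  have hπc' : ∀ i j l, π (c' i j l) = cb i j l := fun i j l => by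
    rw [← hπc]
    exact Ideal.Quotient.eq.mpr (hdiff i j l)
  refine ⟨c', hu', ha', ?_, hπc'⟩
  rw [show cb = fun i j l => π (c' i j l) from funext₃ fun i j l => (hπc' i j l).symm, Mat_map,
    show (Mat c').map π = π.mapMatrix (Mat c') from rfl, ← RingHom.map_det] at hd
  obtain ⟨v, hv⟩ := Ideal.Quotient.mk_surjective (hd.unit⁻¹ : (B ⧸ N)ˣ).val
  have h1 : (Mat c').det * v - 1 ∈ N := by
    rw [← Ideal.Quotient.eq_zero_iff_mem, map_sub, map_mul, hv, IsUnit.mul_val_inv, map_one, sub_self]
  have h2 : IsNilpotent ((Mat c').det * v - 1) := by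
    refine ⟨2, ?_⟩
    have h3 := Ideal.pow_mem_pow h1 2
    rwa [hN] at h3
  have := IsNilpotent.isUnit_one_add h2
  rw [add_comm] at this
  rw [sub_add_cancel] at this
  exact isUnit_of_mul_isUnit_left this

end Lift

end Groth.Agent.Lib.AzStruct62
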