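import Groth.Agent.Lib.AzStruct62.Basic
import Groth.Agent.Lib.Henselian.Smooth
import Groth.Agent.Lib.Henselian.LocalRing
import Mathlib.RingTheory.Smooth.Basic
import Mathlib.RingTheory.FinitePresentation
import Mathlib.RingTheory.Localization.Finiteness

/-!
# The scheme of Azumaya structure constants is smooth; lifting over henselian rings
-/

set_option autoImplicit false
set_option linter.unusedSectionVars false
noncomputable section

namespace Groth.Agent.Lib.AzStruct62

universe u

variable {ι : Type} [Fintype ι] [DecidableEq ι]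

variable (ι) in
/-- Polynomial ring on the structure constants. -/
abbrev Pr : Type := MvPolynomial (ι × ι × ι) ℤ

variable (ι) in
/-- Universal structure constants. -/
def cU : ι → ι → ι → Pr ι := fun i j l => MvPolynomial.X (i, j, l)

/-- The relations. -/
def rels (z : ι) : Set (Pr ι) :=
  (Set.range fun q : ι × ι => cU ι z q.1 q.2 - e q.1 q.2) ∪
  (Set.range fun q : ι × ι => cU ι q.1 z q.2 - e q.1 q.2) ∪
  Set.range fun q : ι × ι × ι × ι =>
    mu (cU ι) (cU ι q.1 q.2.1) (e q.2.2.1) q.2.2.2 - mu (cU ι) (e q.1) (cU ι q.2.1 q.2.2.1) q.2.2.2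

/-- Quotient by the relations. -/
abbrev Q (z : ι) : Type := Pr ι ⧸ Ideal.span (rels z)

/-- The universal determinant. -/
def dU (z : ι) : Q z := Ideal.Quotient.mk _ (Mat (cU ι)).det

/-- Coordinate ring of the scheme of Azumaya structure constants. -/
abbrev E (z : ι) : Type := Localization.Away (dU z)

/-- The universal constants in `E`. -/
def cE (z : ι) : ι → ι → ι → E z := fun i j l => algebraMap (Q z) (E z) (Ideal.Quotient.mk _ (cU ι i j l))

theorem rels_eq_zero_iff {B : Type u} [CommRing B] (φ : Pr ι →+* B) (z : ι) :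
    (∀ r ∈ rels z, φ r = 0) ↔
      Unital (fun i j l => φ (cU ι i j l)) z ∧ Assoc (fun i j l => φ (cU ι i j l)) := by
  let c := fun i j l => φ (cU ι i j l)
  have he : ∀ j l, φ (e j l) = (e j : ι → B) l := fun j l => congrFun (map_e φ j) l
  have hm1 : ∀ a b d l, φ (mu (cU ι) (cU ι a b) (e d) l) = mu c (c a b) (e d) l := fun a b d l => by
    have h := congrFun (mu_map φ (cU ι) (cU ι a b) (e d)) l
    rw [map_e] at h
    exact h.symm
  have hm2 : ∀ a b d l, φ (mu (cU ι) (e a) (cU ι b d) l) = mu c (e a) (c b d) l := fun a b d l => by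
    have h := congrFun (mu_map φ (cU ι) (e a) (cU ι b d)) l
    rw [map_e] at h
    exact h.symm
  constructor
  · intro h
    refine ⟨fun j => ⟨funext fun l => ?_, funext fun l => ?_⟩, fun a b d => funext fun l => ?_⟩
    · have := h _ (Or.inl (Or.inl ⟨(j, l), rfl⟩))
      rwa [map_sub, sub_eq_zero, he] at this
    · have := h _ (Or.inl (Or.inr ⟨(j, l), rfl⟩))
      rwa [map_sub, sub_eq_zero, he] at this
    · have := h _ (Or.inr ⟨(a, b, d, l), rfl⟩)
      rwa [map_sub, sub_eq_zero, hm1, hm2] at this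
  · rintro ⟨hu, ha⟩ r ((⟨q, rfl⟩ | ⟨q, rfl⟩) | ⟨q, rfl⟩)
    · rw [map_sub, sub_eq_zero, he]
      exact congrFun (hu q.1).1 q.2
    · rw [map_sub, sub_eq_zero, he]
      exact congrFun (hu q.1).2 q.2
    · rw [map_sub, sub_eq_zero, hm1, hm2]
      exact congrFun (ha q.1 q.2.1 q.2.2.1) q.2.2.2

/-- A point of the scheme. -/
theorem exists_hom {B : Type u} [CommRing B] {z : ι} (c : ι → ι → ι → B) (hu : Unital c z) (ha : Assoc c)
    (hd : IsUnit (Mat c).det) : ∃ f : E z →+* B, ∀ i j l, f (cE z i j l) = c i j l := by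
  let φ : Pr ι →ₐ[ℤ] B := MvPolynomial.aeval fun q => c q.1 q.2.1 q.2.2
  have hφ : ∀ i j l, φ (cU ι i j l) = c i j l := fun i j l => MvPolynomial.aeval_X _ (i, j, l)
  have heq : (fun i j l => φ.toRingHom (cU ι i j l)) = c := funext₃ hφ
  have hrel : ∀ r ∈ rels z, φ r = 0 := (rels_eq_zero_iff φ.toRingHom z).mpr (by rw [heq]; exact ⟨hu, ha⟩)
  let ψ : Q z →ₐ[ℤ] B := Ideal.Quotient.liftₐ _ φ fun r hr =>
    (Ideal.span_le.mpr fun r hr => hrel r hr : Ideal.span (rels z) ≤ RingHom.ker φ) hr
  have hdet : IsUnit (ψ (dU z)) := by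
    change IsUnit (φ.toRingHom (Mat (cU ι)).det)
    rw [RingHom.map_det, RingHom.mapMatrix_apply, ← Mat_map, heq]
    exact hd
  refine ⟨IsLocalization.Away.lift (dU z) (g := ψ.toRingHom) hdet, fun i j l => ?_⟩
  exact (IsLocalization.Away.lift_eq (dU z) hdet _).trans (hφ i j l)

theorem cE_spec {B : Type u} [CommRing B] {z : ι} (f : E z →+* B) :
    Unital (fun i j l => f (cE z i j l)) z ∧ Assoc (fun i j l => f (cE z i j l)) ∧
      IsUnit (Mat fun i j l => f (cE z i j l)).det := by
  let φ : Pr ι →+* B := f.comp ((algebraMap (Q z) (E z)).comp (Ideal.Quotient.mk _))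
  have hrel : ∀ r ∈ rels z, φ r = 0 := fun r hr => by
    simp only [φ, RingHom.comp_apply]
    rw [Ideal.Quotient.eq_zero_iff_mem.mpr (Ideal.subset_span hr), map_zero, map_zero]
  obtain ⟨h1, h2⟩ := (rels_eq_zero_iff φ z).mp hrel
  refine ⟨h1, h2, ?_⟩
  change IsUnit (Mat fun i j l => φ (cU ι i j l)).det
  rw [Mat_map, ← RingHom.mapMatrix_apply, ← RingHom.map_det]
  exact (IsLocalization.Away.algebraMap_isUnit (S := E z) (dU z)).map f

theorem hom_ext {B : Type u} [CommRing B] {z : ι} {f g : E z →+* B}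
    (h : ∀ i j l, f (cE z i j l) = g (cE z i j l)) : f = g := by
  refine IsLocalization.ringHom_ext (Submonoid.powers (dU z)) (Ideal.Quotient.ringHom_ext ?_)
  refine MvPolynomial.ringHom_ext (fun n => by simp) fun q => ?_
  exact h q.1 q.2.1 q.2.2

instance smooth (z : ι) : Algebra.Smooth ℤ (E z) := by
  have hfp : Algebra.FinitePresentation ℤ (Q z) := Algebra.FinitePresentation.quotient
    (Submodule.fg_span (((Set.finite_range _).union (Set.finite_range _)).union (Set.finite_range _)))
  have hfs : Algebra.FormallySmooth ℤ (E z) := by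
    refine Algebra.FormallySmooth.of_comp_surjective fun B _ _ N hN f => ?_
    obtain ⟨hu, ha, hd⟩ := cE_spec f.toRingHom
    obtain ⟨c, hu', ha', hd', hc⟩ := exists_lift_az hN _ hu ha hd
    obtain ⟨g, hg⟩ := exists_hom c hu' ha' hd'
    refine ⟨{ g with commutes' := fun n => by simp }, ?_⟩
    refine AlgHom.coe_ringHom_injective (hom_ext fun i j l => ?_)
    change Ideal.Quotient.mk N (g (cE z i j l)) = f (cE z i j l)
    rw [hg, hc]
    rfl
  have : Algebra.FinitePresentation (Q z) (E z) := IsLocalization.Away.finitePresentation (dU z)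
  exact ⟨hfs, Algebra.FinitePresentation.trans ℤ (Q z) (E z)⟩

open IsLocalRing in
/-- Azumaya structure constants lift from the residue field of a henselian local ring. -/
theorem exists_lift_henselian (R : Type u) [CommRing R] [HenselianLocalRing R] {z : ι}
    (c₀ : ι → ι → ι → ResidueField R) (hu : Unital c₀ z) (ha : Assoc c₀) (hd : IsUnit (Mat c₀).det) :
    ∃ c : ι → ι → ι → R, Unital c z ∧ Assoc c ∧ IsUnit (Mat c).det ∧
      ∀ i j l, residue R (c i j l) = c₀ i j l := by
  obtain ⟨σ, hσ⟩ := exists_hom c₀ hu ha hd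
  obtain ⟨τ, hτ⟩ := Henselian.Smooth.exists_algHom_lift_smooth (maximalIdeal R) (S := E z)
    ({ σ with commutes' := fun n => RingHom.congr_fun (Subsingleton.elim ((σ : E z →+* R ⧸ maximalIdeal R).comp (algebraMap ℤ (E z))) (algebraMap ℤ (R ⧸ maximalIdeal R))) n } : E z →ₐ[ℤ] R ⧸ maximalIdeal R)
  obtain ⟨h1, h2, h3⟩ := cE_spec τ.toRingHom
  refine ⟨_, h1, h2, h3, fun i j l => ?_⟩
  exact (AlgHom.congr_fun hτ _).trans (hσ i j l)

end Groth.Agent.Lib.AzStruct62
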